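import Cfsg.Agent.CosetEnum.Upper

/-! Generated: two pairs of elements of the O'Nan group that generate copies of `J1` and `M11`. -/

set_option autoImplicit false

namespace CfsgLib.CosetEnum.ON

/-- the relators of the first Janko group; 0, 1, 2 stand for b, b⁻¹, a -/
def jRels : List (List ℕ) :=
  [[2, 2],
  [0, 0, 0],
  [2, 0, 2, 0, 2, 0, 2, 0, 2, 0, 2, 0, 2, 0],
  [2, 0, 2, 0, 2, 1, 2, 0, 2, 1, 2, 0, 2, 1, 2, 0, 2, 0, 2, 1, 2, 0, 2, 1, 2, 0, 2, 1, 2, 0, 2, 0, 2, 1, 2, 0, 2, 1, 2, 0, 2, 1, 2, 0, 2, 0, 2, 1, 2, 0, 2, 1, 2, 0, 2, 1, 2, 0, 2, 0, 2, 1, 2, 0, 2, 1, 2, 0, 2, 1],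
  [2, 0, 2, 0, 2, 1, 2, 0, 2, 1, 2, 0, 2, 1, 2, 0, 2, 1, 2, 0, 2, 1, 2, 0, 2, 1, 2, 0, 2, 0, 2, 1, 2, 1, 2, 0, 2, 0, 2, 1, 2, 0, 2, 1, 2, 0, 2, 1, 2, 0, 2, 1, 2, 0, 2, 1, 2, 0, 2, 1, 2, 0, 2, 0, 2, 1, 2, 1]]

/-- the relators of the Mathieu group of degree 11 -/
def mRels : List (List ℕ) :=
  [[2, 2],
  [0, 0, 0, 0],
  [2, 0, 2, 0, 2, 0, 2, 0, 2, 0, 2, 0, 2, 0, 2, 0, 2, 0, 2, 0, 2, 0],
  [2, 0, 0, 2, 0, 0, 2, 0, 0, 2, 0, 0, 2, 0, 0, 2, 0, 0],
  [2, 0, 2, 0, 2, 1, 2, 0, 2, 0, 0, 2, 1, 2, 0, 2, 1, 2, 1]]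

/-- the conjugating word -/
def vW : List ℕ :=
  [2, 0, 2, 1, 2, 0]

/-- the conjugate of b -/
def cW : List ℕ :=
  [1, 2, 0, 2, 1, 2, 0, 2, 0, 2, 1, 2, 0]

/-- the involution of the Janko subgroup -/
def jA : List ℕ :=
  [4, 5, 3, 4, 0, 1, 1, 6, 4, 5, 3, 4, 0, 1, 1, 6]

/-- the element of order 3 of the Janko subgroup -/
def jB : List ℕ :=
  [2, 7, 5, 6, 1, 0, 7, 3, 7, 4, 7, 5, 7, 2]

/-- the involution of the Mathieu subgroup -/
def mA : List ℕ :=
  [1, 1, 1, 1, 4, 6]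

/-- the element of order 4 of the Mathieu subgroup -/
def mB : List ℕ :=
  [1, 3, 4, 6, 5, 2, 1, 0, 5, 0, 5, 1, 2, 4, 1, 1, 2, 5, 6, 4, 3, 0]

/-- the involution as a word in the matrices -/
def xA : List Bool :=
  [false, true, false, true, true, true, true]

/-- the element of order 3 as a word in the matrices -/
def xB : List Bool :=
  [false, false, true, false, true, false, false, false, true, true, false, false, true, false, true, false, false, false, true, true]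

/-- the first matrix as a word in the pair -/
def backX : List Bool :=
  [true, true, false, true, true, false, true, false, true, true, false, true, true, false, true, false, true, false, true, true, false, true, true, false, true, false, true, false, true, true, false, true, false, true, true, false, true, false, true, false, true, true, false, true, true, false, true, false, true, true, false, true, false, true, true]

/-- the second matrix as a word in the pair -/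
def backY : List Bool :=
  [true, true, false, true, false, true, false, true, true, false, true, false, true, true, false, true, true, false, true, false, true, true, false, true, false, true, true, false, true, false, true, true, false, true, false, true, false, true, true, false, true, true, false, true, false, true, false, true, true, false, true, true, false, true, true]

/-- words fixing the points below 0 and the image of 0 -/
def mLev0 : List (List ℕ × Fin 11) :=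
  [([], 0),
  ([1, 2, 0], 1),
  ([0, 0], 2),
  ([1], 3),
  ([0, 0, 2, 0], 4),
  ([0, 2, 0], 5),
  ([2, 0, 0, 2, 0], 6),
  ([0], 7),
  ([2, 0], 8),
  ([2, 1, 2, 0], 9),
  ([2, 1], 10)]

/-- words fixing the points below 1 and the image of 1 -/
def mLev1 : List (List ℕ × Fin 11) :=
  [([], 1),
  ([0, 2, 0, 2, 1, 2], 2),
  ([1, 2, 1, 2, 0, 2, 0, 2], 3),
  ([0, 2, 0, 0, 2, 1, 2], 4),
  ([0, 0, 2, 0, 0, 2], 5),
  ([0, 2, 1, 2, 1, 2], 6),
  ([0, 2, 1, 2, 0, 2, 0, 0, 2], 7),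
  ([0, 0, 2, 1, 2, 1, 2, 1, 2], 8),
  ([2], 9),
  ([2, 1, 2, 1, 2, 0, 2, 0, 2], 10)]

/-- words fixing the points below 2 and the image of 2 -/
def mLev2 : List (List ℕ × Fin 11) :=
  [([], 2),
  ([0, 0, 2, 1, 2, 0, 2, 1], 3),
  ([0, 2, 0, 2, 1], 4),
  ([0, 0, 2, 1, 2, 1, 2, 1], 5),
  ([0, 2, 0, 0, 2, 1], 6),
  ([1, 2, 1, 2, 0, 2, 0], 7),
  ([0, 0, 2, 1, 2, 0, 0, 2, 1], 8),
  ([0, 2, 1, 2, 1], 9),
  ([0, 0, 2, 0, 2, 1, 2, 0, 2, 0], 10)]

/-- words fixing the points below 3 and the image of 3 -/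
def mLev3 : List (List ℕ × Fin 11) :=
  [([], 3),
  ([0, 0, 2, 0, 0], 4),
  ([0, 2, 0, 2, 0, 2, 1, 2, 1, 2, 0, 2, 1, 2, 0, 2, 1], 5),
  ([0, 2, 0, 2, 0, 0, 2, 1, 2, 1, 2, 1, 2, 0, 0, 2, 0], 6),
  ([1, 2, 1, 2, 1, 2, 0, 2, 0, 0, 2, 0], 7),
  ([0, 2, 1, 2, 0, 2, 0, 2, 0, 0, 2, 1, 2, 0, 0, 2, 0], 8),
  ([0, 2, 1, 2, 0, 2, 1, 2, 0, 2, 0, 2, 1, 2, 1, 2, 1], 9),
  ([1, 2, 0, 0, 2, 1, 2, 0, 2, 0, 2, 0], 10)]

end CfsgLib.CosetEnum.ON
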